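import Cfsg.Agent.Lib.DC.Ly.Defs

set_option autoImplicit false
set_option maxRecDepth 100000
set_option Elab.async false
set_option linter.unusedSectionVars false

namespace Cfsg.Agent.DC.Ly
open Cfsg.Agent.CG

theorem c0 : allLt (fun a => Nat.beq (iv a) (nth CG.G25.invL 49 a)) 256 = true := by decide +kernel
theorem c1 : band (blt ivT (Nat.pow 2 2048)) (blt CG.G25.invL.length 256) = true := by decide +kernel
theorem c2 : allLt (fun a => blt (iv a) 256) 256 = true := by decide +kernel
theorem c3 : rules.all (ruleChk iv rels0 lrels idx) = true := by decide +kernel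
theorem c4 : allRange (chk CG.G25.app iv CG.G25.bs false facts nd rules) 0 199 = true := by decide +kernel
theorem c5 : chainIn (dl.map Prod.fst) CG.G25.mc.tail = true := by decide +kernel
theorem c6 : allL (dlChk facts 199 1) dl = true := by decide +kernel
theorem c7 : allRange (forChk CG.G25.app iv facts 199 0 1 0 20 fin fo0) 0 18604 = true := by decide +kernel
theorem c8 : allRange (forChk CG.G25.app iv facts 199 0 1 0 20 fin fo0) 18604 926 = true := by decide +kernel
theorem c9 : allRange (forChk CG.G25.app iv facts 199 1 1 0 20 fin fo1) 0 15200 = true := by decide +kernel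
theorem c10 : allRange (forChk CG.G25.app iv facts 199 1 1 0 20 fin fo1) 15200 4330 = true := by decide +kernel
theorem c11 : allRange (forChk CG.G25.app iv facts 199 2 1 0 20 fin fo2) 0 13997 = true := by decide +kernel
theorem c12 : allRange (forChk CG.G25.app iv facts 199 2 1 0 20 fin fo2) 13997 5533 = true := by decide +kernel
theorem c13 : allRange (forChk CG.G25.app iv facts 199 3 1 0 20 fin fo3) 0 15057 = true := by decide +kernel
theorem c14 : allRange (forChk CG.G25.app iv facts 199 3 1 0 20 fin fo3) 15057 4473 = true := by decide +kernel
theorem c15 : allRange (forChk CG.G25.app iv facts 199 4 1 0 20 fin fo4) 0 14461 = true := by decide +kernel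
theorem c16 : allRange (forChk CG.G25.app iv facts 199 4 1 0 20 fin fo4) 14461 5069 = true := by decide +kernel

end Cfsg.Agent.DC.Ly
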