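import Cfsg.Agent.Lib.DC.Ly.D0
import Cfsg.Agent.Lib.Grp.G25.Defs

set_option autoImplicit false
set_option maxRecDepth 100000
set_option Elab.async false
set_option linter.unusedSectionVars false

namespace Cfsg.Agent.DC.Ly
open Cfsg.Agent.CG

noncomputable def fo0T : Tr ℕ := (.node (.node (.node (.node (.leaf fo0T_0) (.leaf fo0T_8)) (.leaf fo0T_4)) (.node (.leaf fo0T_2) (.leaf fo0T_6))) (.node (.node (.node (.leaf fo0T_1) (.leaf fo0T_9)) (.leaf fo0T_5)) (.node (.leaf fo0T_3) (.leaf fo0T_7))))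
noncomputable def fo1T : Tr ℕ := (.node (.node (.node (.node (.leaf fo1T_0) (.leaf fo1T_8)) (.leaf fo1T_4)) (.node (.leaf fo1T_2) (.leaf fo1T_6))) (.node (.node (.node (.leaf fo1T_1) (.leaf fo1T_9)) (.leaf fo1T_5)) (.node (.leaf fo1T_3) (.leaf fo1T_7))))
noncomputable def fo2T : Tr ℕ := (.node (.node (.node (.node (.leaf fo2T_0) (.leaf fo2T_8)) (.leaf fo2T_4)) (.node (.leaf fo2T_2) (.leaf fo2T_6))) (.node (.node (.node (.leaf fo2T_1) (.leaf fo2T_9)) (.leaf fo2T_5)) (.node (.leaf fo2T_3) (.leaf fo2T_7))))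
noncomputable def fo3T : Tr ℕ := (.node (.node (.node (.node (.leaf fo3T_0) (.leaf fo3T_8)) (.leaf fo3T_4)) (.node (.leaf fo3T_2) (.leaf fo3T_6))) (.node (.node (.node (.leaf fo3T_1) (.leaf fo3T_9)) (.leaf fo3T_5)) (.node (.leaf fo3T_3) (.leaf fo3T_7))))
noncomputable def fo4T : Tr ℕ := (.node (.node (.node (.node (.leaf fo4T_0) (.leaf fo4T_8)) (.leaf fo4T_4)) (.node (.leaf fo4T_2) (.leaf fo4T_6))) (.node (.node (.node (.leaf fo4T_1) (.leaf fo4T_9)) (.leaf fo4T_5)) (.node (.leaf fo4T_3) (.leaf fo4T_7))))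
noncomputable def nd : ℕ → ℕ := (fun i => look 0xffffff ndT (Nat.mul 24 i))
noncomputable def ivT : ℕ := nat_lit 0x1e011c1f1a1d181b16191417121510132e112c2f2a2d282b26292427222520233e213c3f3a3d383b393736353433323130
noncomputable abbrev iv : ℕ → ℕ := ivX ivT 49
noncomputable def rels : List (List ℕ × List ℤ) := [([257,4,256,1,3,4,1,2,4,3,0,2,0], []),
  ([257,9,256,3,5,3,0,5,1,2,2], []),
  ([257,11,256,1,3,1,5,0,2,0], []),
  ([257,13,256,3,1,2,5,3,0,2], []),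
  ([257,15,256,4,2,2,5,1,3,5,2,0,3,3], []),
  ([257,0,256,0,0,0], []),
  ([257,2,0,3,256,0,0,2,0,3], []),
  ([257,2,2,0,3,3,256,0,2,2,1,3,3,1], []),
  ([256,256,1,1], []),
  ([3,3,0,2,2,256,3,3,0,2,2,256,3,3,0,2,2,256,0,0], []),
  ([5,7,1,5,1,2,5,7,256,1,6,3,5,1,2,5,7,2,5,3,1,5,0,3,0,2,0,3,256,1,5,7,0,5,3,0,5,7,1,5,0,4,3,3,5,3,1,3,3,256], []),
  ([257,7,257,1,5,7,2,1,3,5,7,2,1,3,5,3,0,3,3,0,3,256,6,256,0,2,1,2,2,1,2,2,5,0,4,2,4,3,6,4,3,3,6,4,2,4], []),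
  ([256,2,0,3,1,3,3,1,3,4,2,2,4,2,6,4,3,3,6,4,2,4,256,0,3,3,1,4,2,5,2,1,5,5,6,4,0,4,1,4,3,7,257,5,3,5,7,2,2,5,7,3,5,3,3,5,2,0,2,2,0,2,1,3,257,7,0,4,2,4,1,5,7,0,3,1,4,1,3,3,1,2,1], []),
  ([256,2,6,256,2,2,1,3,1,2,2,5,0,4,1,5,6,5,2,2,1,4,2,257,7,3,257,5,1,4,2,5,7,4,1,4,0,4,3,1,3,1,2], [])]
noncomputable def lrels : List (List ℕ) := []
noncomputable abbrev rels0 : List (List ℕ × List ℤ) := ([], []) :: ([256, 257], []) :: rels
noncomputable def idx : List (ℕ × ℕ) := [(257, 10)]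
noncomputable def fin : List ℕ := [0,1,2,3,4]
noncomputable def dl : List (ℕ × ℕ) := [(0,161),(1,162),(4,163),(5,164),(9,165),(10,166),(11,167),(12,168),(13,169),(14,170),(15,171),(16,172),(23,173),(24,174),(25,175),(26,176),(27,177),(28,178),(29,179),(30,180),(31,181),(32,182),(33,183),(34,184),(35,185),(36,186),(37,187),(38,188),(39,189),(40,190),(41,191),(42,192),(43,193),(44,194),(45,195),(46,196),(47,197),(48,198)]
noncomputable def fo0 : ℕ → ℕ := (fun i => lk2 fo0T 0xffffffff (Nat.mul 32 i))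
noncomputable def fo1 : ℕ → ℕ := (fun i => lk2 fo1T 0xffffffff (Nat.mul 32 i))
noncomputable def fo2 : ℕ → ℕ := (fun i => lk2 fo2T 0xffffffff (Nat.mul 32 i))
noncomputable def fo3 : ℕ → ℕ := (fun i => lk2 fo3T 0xffffffff (Nat.mul 32 i))
noncomputable def fo4 : ℕ → ℕ := (fun i => lk2 fo4T 0xffffffff (Nat.mul 32 i))

end Cfsg.Agent.DC.Ly
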